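import Mathlib

/-!
# Groups with abelian involution centralizers: common definitions (helper4, for S2202)
-/

set_option autoImplicit false

namespace Cfsg.Agent.Helper4.AbInv

/-- Hypothesis (H): the centralizer of every involution is abelian (elementwise form). -/
def AbInvHyp (G : Type*) [Group G] : Prop :=
  ∀ t : G, orderOf t = 2 → ∀ x y : G, x * t = t * x → y * t = t * y → x * y = y * x

/-- `G = L × B` internally with `B` central of odd order and all involution centralizers of `L`
of exponent two. -/
def Good (G : Type*) [Group G] : Prop :=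
  ∃ L B : Subgroup G, L.Normal ∧ B ≤ Subgroup.center G ∧ Odd (Nat.card B) ∧ L ⊓ B = ⊥ ∧
    L ⊔ B = ⊤ ∧ ∀ t ∈ L, orderOf t = 2 → ∀ c ∈ L, c * t = t * c → c ^ 2 = 1

/-- The conclusion, in internal form. -/
def Concl (G : Type*) [Group G] : Prop :=
  (∀ P : Sylow 2 G, IsCyclic ↥(P : Subgroup G)) ∨ (∀ P : Sylow 2 G, (P : Subgroup G).Normal) ∨
    Good G

/-- The "TI" hypothesis: for an involution `t` and a nontrivial odd order element `a` of `C(t)`,
`C(a)` normalizes the Sylow 2-subgroup of `t` (phrased as: conjugates of `t` under `C(a)`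
commute with `t`). -/
def TIHyp (G : Type*) [Group G] : Prop :=
  ∀ t a g : G, orderOf t = 2 → a * t = t * a → Odd (orderOf a) → a ≠ 1 → g * a = a * g →
    (g * t * g⁻¹) * t = t * (g * t * g⁻¹)

theorem AbInvHyp.subgroup {G : Type*} [Group G] (h : AbInvHyp G) (Y : Subgroup G) :
    AbInvHyp ↥Y := by
  intro t ht x y hx hy
  have ht' : orderOf (t : G) = 2 := by rw [Subgroup.orderOf_coe]; exact ht
  have := h (t : G) ht' (x : G) (y : G) (by exact_mod_cast congrArg Subtype.val hx)
    (by exact_mod_cast congrArg Subtype.val hy)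
  exact Subtype.ext (by exact_mod_cast this)

theorem AbInvHyp.of_mulEquiv {G H : Type*} [Group G] [Group H] (h : AbInvHyp G) (e : G ≃* H) :
    AbInvHyp H := by
  intro t ht x y hx hy
  have ht' : orderOf (e.symm t) = 2 := by rw [MulEquiv.orderOf_eq]; exact ht
  have := h (e.symm t) ht' (e.symm x) (e.symm y) (by rw [← map_mul, ← map_mul, hx])
    (by rw [← map_mul, ← map_mul, hy])
  have h2 := congrArg e this
  simpa using h2

end Cfsg.Agent.Helper4.AbInv
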