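import Mathlib
import Cfsg.Prelude.Def_Involutions
import Cfsg.Agent.Lib.Helper4.AbInv.Defs
import Cfsg.Agent.Lib.Helper45.StronglyEmbedded

/-!
# Abelian involution centralizers: basic layer (helper4, for S2202)

`G` finite with `AbInvHyp G`. Points are the Sylow 2-subgroups (conjugation action).
-/

set_option autoImplicit false

namespace Cfsg.Agent.Helper4.AbInv

open Subgroup Cfsg.Agent.Helper45.SE

variable {G : Type*} [Group G]

theorem smul_sylow_mem_iff (g x : G) (P : Sylow 2 G) :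
    x ∈ ((g • P : Sylow 2 G) : Subgroup G) ↔ g⁻¹ * x * g ∈ (P : Subgroup G) := by
  rw [Sylow.coe_subgroup_smul, Subgroup.mem_pointwise_smul_iff_inv_smul_mem]
  simp [MulAut.smul_def, mul_assoc]

theorem mem_normalizer_iff_smul (P : Sylow 2 G) (x : G) :
    x ∈ normalizer ((P : Subgroup G) : Set G) ↔ x • P = P :=
  Sylow.smul_eq_iff_mem_normalizer.symm

theorem conj_mem_smul_sylow (g x : G) (P : Sylow 2 G) (hx : x ∈ (P : Subgroup G)) :
    g * x * g⁻¹ ∈ ((g • P : Sylow 2 G) : Subgroup G) := by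
  rw [smul_sylow_mem_iff]
  have : g⁻¹ * (g * x * g⁻¹) * g = x := by group
  rw [this]; exact hx

/-- an involution normalizing a Sylow 2-subgroup lies in it -/
theorem invol_mem_of_mem_normalizer (P : Sylow 2 G) {s : G} (hs : orderOf s = 2)
    (hsN : s ∈ normalizer ((P : Subgroup G) : Set G)) : s ∈ (P : Subgroup G) := by
  have hz : IsPGroup 2 (Subgroup.zpowers s) := by
    intro c
    refine ⟨1, ?_⟩
    obtain ⟨c, k, rfl⟩ := c
    apply Subtype.ext
    simp only [pow_one, Subgroup.coe_pow, Subgroup.coe_one]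
    rw [← zpow_natCast, ← zpow_mul, mul_comm, zpow_mul, zpow_natCast]
    have : s ^ 2 = 1 := by rw [← hs]; exact pow_orderOf_eq_one s
    rw [this, one_zpow]
  have hle : Subgroup.zpowers s ≤ Subgroup.normalizer ((P : Subgroup G) : Set G) := by
    rw [Subgroup.zpowers_le]; exact hsN
  have hsup := IsPGroup.to_sup_of_normal_left' P.isPGroup' hz hle
  have := P.is_maximal' hsup le_sup_left
  have h2 : Subgroup.zpowers s ≤ (P : Subgroup G) := by
    rw [← this]; exact le_sup_right
  exact h2 (Subgroup.mem_zpowers s)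

/-- a 2-subgroup normalizing a Sylow 2-subgroup lies in it -/
theorem le_of_le_normalizer (P : Sylow 2 G) {Q : Subgroup G} (hQ : IsPGroup 2 Q)
    (hQN : Q ≤ normalizer ((P : Subgroup G) : Set G)) : Q ≤ (P : Subgroup G) := by
  have hsup := IsPGroup.to_sup_of_normal_left' P.isPGroup' hQ hQN
  have := P.is_maximal' hsup le_sup_left
  rw [← this]; exact le_sup_right

variable [Finite G]

/-- a nontrivial Sylow 2-subgroup has a central involution -/
theorem exists_central_invol (P : Sylow 2 G) (hP : (P : Subgroup G) ≠ ⊥) :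
    ∃ z ∈ (P : Subgroup G), orderOf z = 2 ∧ ∀ x ∈ (P : Subgroup G), x * z = z * x := by
  haveI : Fact (Nat.Prime 2) := ⟨Nat.prime_two⟩
  have : Nontrivial ↥(P : Subgroup G) := (Subgroup.nontrivial_iff_ne_bot _).mpr hP
  have hnt : Nontrivial (Subgroup.center ↥(P : Subgroup G)) :=
    IsPGroup.center_nontrivial P.isPGroup'
  have hpg : IsPGroup 2 (Subgroup.center ↥(P : Subgroup G)) := P.isPGroup'.to_subgroup _
  obtain ⟨n, hn⟩ := (IsPGroup.iff_card).mp hpg
  have hn0 : n ≠ 0 := by
    rintro rfl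
    rw [pow_zero] at hn
    have := (Nat.card_eq_one_iff_unique.mp hn).1
    exact not_subsingleton _ this
  have h2 : 2 ∣ Nat.card (Subgroup.center ↥(P : Subgroup G)) := by
    rw [hn]; exact dvd_pow_self 2 hn0
  obtain ⟨z, hz⟩ := exists_prime_orderOf_dvd_card' 2 h2
  refine ⟨((z : ↥(P : Subgroup G)) : G), (z : ↥(P : Subgroup G)).2, ?_, ?_⟩
  · rw [Subgroup.orderOf_coe, Subgroup.orderOf_coe]; exact hz
  · intro x hx
    have := Subgroup.mem_center_iff.mp z.2 ⟨x, hx⟩
    have h3 := congrArg (fun y : ↥(P : Subgroup G) => (y : G)) this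
    simpa using h3

variable (hab : AbInvHyp G)
include hab

/-- Sylow 2-subgroups are abelian -/
theorem sylow_comm (P : Sylow 2 G) :
    ∀ x ∈ (P : Subgroup G), ∀ y ∈ (P : Subgroup G), x * y = y * x := by
  intro x hx y hy
  by_cases hP : (P : Subgroup G) = ⊥
  · rw [hP, Subgroup.mem_bot] at hx hy
    rw [hx, hy]
  · obtain ⟨z, _, hz, hzc⟩ := exists_central_invol P hP
    exact hab z hz x y (hzc x hx) (hzc y hy)

/-- the centralizer of an involution of `P` is the centralizer of `P` -/
theorem mem_centralizer_of_comm_invol (P : Sylow 2 G) {t c : G} (ht : orderOf t = 2)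
    (htP : t ∈ (P : Subgroup G)) (hc : c * t = t * c) :
    c ∈ centralizer ((P : Subgroup G) : Set G) := by
  rw [Subgroup.mem_centralizer_iff]
  intro p hp
  exact (hab t ht c p hc (sylow_comm hab P p hp t htP)).symm

theorem centralizer_sylow_comm (P : Sylow 2 G) (hP : (P : Subgroup G) ≠ ⊥) :
    ∀ x ∈ centralizer ((P : Subgroup G) : Set G), ∀ y ∈ centralizer ((P : Subgroup G) : Set G),
      x * y = y * x := by
  intro x hx y hy
  obtain ⟨z, hzP, hz, _⟩ := exists_central_invol P hP
  exact hab z hz x y ((Subgroup.mem_centralizer_iff.mp hx z hzP).symm)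
    ((Subgroup.mem_centralizer_iff.mp hy z hzP).symm)

theorem sylow_le_centralizer (P : Sylow 2 G) :
    (P : Subgroup G) ≤ centralizer ((P : Subgroup G) : Set G) := by
  intro x hx
  rw [Subgroup.mem_centralizer_iff]
  intro p hp
  exact sylow_comm hab P p hp x hx

/-- two Sylow 2-subgroups sharing an involution are equal -/
theorem sylow_eq_of_invol_mem (P Q : Sylow 2 G) {t : G} (ht : orderOf t = 2)
    (htP : t ∈ (P : Subgroup G)) (htQ : t ∈ (Q : Subgroup G)) : Q = P := by
  have hQle : (Q : Subgroup G) ≤ centralizer ((P : Subgroup G) : Set G) := by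
    intro q hq
    exact mem_centralizer_of_comm_invol hab P ht htP (sylow_comm hab Q q hq t htQ)
  have hQN : (Q : Subgroup G) ≤ normalizer ((P : Subgroup G) : Set G) :=
    hQle.trans (Subgroup.centralizer_le_normalizer _)
  have hle := le_of_le_normalizer P Q.isPGroup' hQN
  exact Sylow.ext (Q.is_maximal' P.isPGroup' hle).symm

omit hab [Finite G] in
theorem exists_sylow_of_invol {t : G} (ht : orderOf t = 2) : ∃ Q : Sylow 2 G, t ∈ (Q : Subgroup G) := by
  have hz : IsPGroup 2 (Subgroup.zpowers t) := by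
    intro c
    refine ⟨1, ?_⟩
    obtain ⟨c, k, rfl⟩ := c
    apply Subtype.ext
    simp only [pow_one, Subgroup.coe_pow, Subgroup.coe_one]
    rw [← zpow_natCast, ← zpow_mul, mul_comm, zpow_mul, zpow_natCast]
    have : t ^ 2 = 1 := by rw [← ht]; exact pow_orderOf_eq_one t
    rw [this, one_zpow]
  obtain ⟨Q, hQ⟩ := hz.exists_le_sylow
  exact ⟨Q, hQ (Subgroup.mem_zpowers t)⟩

omit hab in
theorem exists_invol_mem (P : Sylow 2 G) (hP : (P : Subgroup G) ≠ ⊥) :
    ∃ t ∈ (P : Subgroup G), orderOf t = 2 := by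
  obtain ⟨z, hzP, hz, _⟩ := exists_central_invol P hP
  exact ⟨z, hzP, hz⟩

/-- `N_G(P)` is strongly embedded when `P` is a nontrivial non-normal Sylow 2-subgroup -/
theorem stronglyEmbedded_normalizer (P : Sylow 2 G) (hP : (P : Subgroup G) ≠ ⊥)
    (hnn : ¬ (P : Subgroup G).Normal) :
    Cfsg.IsStronglyEmbedded (normalizer ((P : Subgroup G) : Set G)) := by
  refine ⟨?_, ?_, ?_⟩
  · intro h
    exact hnn (Subgroup.normalizer_eq_top_iff.mp h)
  · obtain ⟨t, htP, ht⟩ := exists_invol_mem P hP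
    exact even_card_of_mem _ ht (Subgroup.le_normalizer htP)
  · intro g hg
    by_contra hodd
    rw [Nat.not_odd_iff_even] at hodd
    obtain ⟨s, hs, hs2⟩ := exists_invol_of_even _ hodd
    rw [Subgroup.mem_inf] at hs
    have h1 : s ∈ (P : Subgroup G) := invol_mem_of_mem_normalizer P hs2 hs.1
    have h2 : g⁻¹ * s * g ∈ normalizer ((P : Subgroup G) : Set G) :=
      (mem_conj_map _ g s).mp hs.2
    have h3 : orderOf (g⁻¹ * s * g) = 2 := by
      have := orderOf_conj' g⁻¹ s
      rw [inv_inv] at this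
      rw [this]; exact hs2
    have h4 : g⁻¹ * s * g ∈ (P : Subgroup G) := invol_mem_of_mem_normalizer P h3 h2
    have h5 : s ∈ ((g • P : Sylow 2 G) : Subgroup G) := (smul_sylow_mem_iff g s P).mpr h4
    have h6 := sylow_eq_of_invol_mem hab P (g • P) hs2 h1 h5
    exact hg (Sylow.smul_eq_iff_mem_normalizer.mp h6)

omit hab in
theorem smul_mk_one_eq_mk_iff (P : Sylow 2 G) (i g : G) :
    i • (QuotientGroup.mk 1 : G ⧸ normalizer ((P : Subgroup G) : Set G)) = QuotientGroup.mk g ↔
      i • P = g • P := by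
  have h1 : i • (QuotientGroup.mk 1 : G ⧸ normalizer ((P : Subgroup G) : Set G)) =
      QuotientGroup.mk i := by
    rw [MulAction.Quotient.smul_mk, smul_eq_mul, mul_one]
  rw [h1, QuotientGroup.eq, mem_normalizer_iff_smul, mul_smul, inv_smul_eq_iff, eq_comm]

omit hab in
theorem smul_mk_eq_mk_iff (P : Sylow 2 G) (d g : G) :
    d • (QuotientGroup.mk g : G ⧸ normalizer ((P : Subgroup G) : Set G)) = QuotientGroup.mk g ↔
      d • (g • P) = g • P := by
  rw [smul_mk_eq_iff, mem_normalizer_iff_smul, mul_smul, mul_smul, inv_smul_eq_iff]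

/-- any two distinct Sylow 2-subgroups are interchanged by an involution -/
theorem exists_swap (P : Sylow 2 G) (hP : (P : Subgroup G) ≠ ⊥) (hnn : ¬ (P : Subgroup G).Normal)
    (Q : Sylow 2 G) : ∃ u : G, orderOf u = 2 ∧ u • P = Q := by
  have hH := stronglyEmbedded_normalizer hab P hP hnn
  obtain ⟨g, rfl⟩ := MulAction.exists_smul_eq G P Q
  obtain ⟨i, hi, hig⟩ := exists_swap_pt hH (QuotientGroup.mk 1) (QuotientGroup.mk g)
  exact ⟨i, hi, (smul_mk_one_eq_mk_iff P i g).mp hig⟩

/-- the number of involutions carrying `P` to `Q` is the number of involutions of `N_G(P)` -/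
theorem card_swap_sylow (P : Sylow 2 G) (hP : (P : Subgroup G) ≠ ⊥) (hnn : ¬ (P : Subgroup G).Normal)
    (Q : Sylow 2 G) : Nat.card {u : G // orderOf u = 2 ∧ u • P = Q} =
      numInv (normalizer ((P : Subgroup G) : Set G)) := by
  have hH := stronglyEmbedded_normalizer hab P hP hnn
  obtain ⟨g, rfl⟩ := MulAction.exists_smul_eq G P Q
  rw [← card_swap hH (QuotientGroup.mk 1) (QuotientGroup.mk g)]
  exact Nat.card_congr (Equiv.subtypeEquivRight fun i =>
    and_congr Iff.rfl (smul_mk_one_eq_mk_iff P i g).symm)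

omit hab [Finite G] in
theorem numInv_normalizer (P : Sylow 2 G) : numInv (normalizer ((P : Subgroup G) : Set G)) =
    Nat.card {t : G // orderOf t = 2 ∧ t ∈ (P : Subgroup G)} := by
  unfold numInv
  exact Nat.card_congr (Equiv.subtypeEquivRight fun t =>
    ⟨fun h => ⟨h.1, invol_mem_of_mem_normalizer P h.1 h.2⟩,
     fun h => ⟨h.1, Subgroup.le_normalizer h.2⟩⟩)

/-- the two-point stabilizer `N_G(P) ∩ N_G(Q)` is transitive on the involutions of `P` -/
theorem exists_conj_sylow (P : Sylow 2 G) (hP : (P : Subgroup G) ≠ ⊥)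
    (hnn : ¬ (P : Subgroup G).Normal) (Q : Sylow 2 G) (hQ : Q ≠ P) {s t : G}
    (hs : orderOf s = 2) (hsP : s ∈ (P : Subgroup G)) (ht : orderOf t = 2)
    (htP : t ∈ (P : Subgroup G)) : ∃ d : G, d • P = P ∧ d • Q = Q ∧ d * s * d⁻¹ = t := by
  have hH := stronglyEmbedded_normalizer hab P hP hnn
  obtain ⟨g, rfl⟩ := MulAction.exists_smul_eq G P Q
  have hne : (QuotientGroup.mk 1 : G ⧸ normalizer ((P : Subgroup G) : Set G)) ≠
      QuotientGroup.mk g := by
    intro h
    apply hQ
    have := (smul_mk_one_eq_mk_iff P 1 g).mp (by rw [one_smul]; exact h)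
    rw [one_smul] at this
    exact this.symm
  obtain ⟨d, hd1, hd2, hd3⟩ := exists_conj_fix hH hne hs
    ((smul_mk_one_iff _ s).mpr (Subgroup.le_normalizer hsP)) ht
    ((smul_mk_one_iff _ t).mpr (Subgroup.le_normalizer htP))
  refine ⟨d, ?_, (smul_mk_eq_mk_iff P d g).mp hd2, hd3⟩
  exact Sylow.smul_eq_iff_mem_normalizer.mpr ((smul_mk_one_iff _ d).mp hd1)

end Cfsg.Agent.Helper4.AbInv
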