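import Mathlib
import Cfsg.Prelude.Def_Involutions
import Cfsg.Prelude.Def_LieExceptional
import Cfsg.Agent.Lib.Helper4.AbInv.Basic
import Cfsg.Agent.Lib.Helper4.ZassFeitAbel
import Cfsg.Agent.S0738
import Cfsg.Agent.Lib.Helper53.UniqueInvol1
import Cfsg.Agent.Lib.Helper21.StdRankOne

/-!
# S2202, case 2 (TI case): from the structure statements to exponent two (helper4)
-/

set_option autoImplicit false

namespace Cfsg.Agent.Helper4.AbInv

open Subgroup Cfsg.Agent.Helper45.SE

variable {G : Type*} [Group G] [Finite G]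

/-- the structural data of case 2 -/
structure C2 (P : Sylow 2 G) : Prop where
  hab : AbInvHyp G
  hnc : ¬ IsCyclic ↥(P : Subgroup G)
  hnn : ¬ (P : Subgroup G).Normal
  hinv : ∀ u : G, orderOf u = 2 → u ∉ normalizer ((P : Subgroup G) : Set G) →
    ∀ d ∈ normalizer ((P : Subgroup G) : Set G),
      u⁻¹ * d * u ∈ normalizer ((P : Subgroup G) : Set G) → u * d * u⁻¹ = d⁻¹
  hZ2 : ∀ Q₁ Q₂ Q₃ : Sylow 2 G, Q₁ ≠ Q₂ → Q₂ ≠ Q₃ → Q₁ ≠ Q₃ → ∀ g : G, g • Q₁ = Q₁ →
    g • Q₂ = Q₂ → g • Q₃ = Q₃ → g = 1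
  hZ3a : ∀ Q : Sylow 2 G, Q ≠ P → ∀ c ∈ centralizer ((P : Subgroup G) : Set G), c • Q = Q → c = 1
  hZ3b : ∀ Q Q' : Sylow 2 G, Q ≠ P → Q' ≠ P →
    ∃ c ∈ centralizer ((P : Subgroup G) : Set G), c • Q = Q'

namespace C2

variable {P : Sylow 2 G} (h : C2 P)
include h

theorem ne_bot : (P : Subgroup G) ≠ ⊥ := by
  intro hP
  apply h.hnc
  rw [hP]
  exact isCyclic_of_subsingleton

theorem exists_two_invol : ∃ s t : G, s ∈ (P : Subgroup G) ∧ t ∈ (P : Subgroup G) ∧
    orderOf s = 2 ∧ orderOf t = 2 ∧ s ≠ t := by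
  by_contra hcon
  push Not at hcon
  apply h.hnc
  apply Cfsg.Agent.Helper53.isCyclic_of_comm_of_unique_invol P.isPGroup'
  · intro x y
    exact Subtype.ext (sylow_comm h.hab P x x.2 y y.2)
  · intro x y hx hy
    have hx' : orderOf (x : G) = 2 := by rw [Subgroup.orderOf_coe]; exact hx
    have hy' : orderOf (y : G) = 2 := by rw [Subgroup.orderOf_coe]; exact hy
    exact Subtype.ext (hcon x y x.2 y.2 hx' hy')

theorem exists_other : ∃ Q : Sylow 2 G, Q ≠ P := by
  by_contra hcon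
  push Not at hcon
  apply h.hnn
  rw [← Subgroup.normalizer_eq_top_iff, eq_top_iff]
  intro g _
  exact (mem_normalizer_iff_smul P g).mpr (hcon (g • P))

theorem smul_P_of_mem_centralizer {c : G} (hc : c ∈ centralizer ((P : Subgroup G) : Set G)) :
    c • P = P :=
  (mem_normalizer_iff_smul P c).mp (Subgroup.centralizer_le_normalizer _ hc)

theorem faithful (g : G) (hg : ∀ Q : Sylow 2 G, g • Q = Q) : g = 1 := by
  obtain ⟨Q0, hQ0⟩ := h.exists_other
  obtain ⟨t, htP, ht⟩ := exists_invol_mem P h.ne_bot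
  have htM : t ∈ centralizer ((P : Subgroup G) : Set G) := sylow_le_centralizer h.hab P htP
  have h1 : t • Q0 ≠ Q0 := fun hfix => ne_one' ht (h.hZ3a Q0 hQ0 t htM hfix)
  have h2 : t • Q0 ≠ P := by
    intro he
    apply hQ0
    have := h.smul_P_of_mem_centralizer htM
    rw [← this] at he
    exact smul_left_cancel t he
  exact h.hZ2 P Q0 (t • Q0) (Ne.symm hQ0) (Ne.symm h1) (Ne.symm h2) g (hg _) (hg _) (hg _)

theorem two_trans {a b c d : Sylow 2 G} (hab' : a ≠ b) (hcd : c ≠ d) :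
    ∃ g : G, g • a = c ∧ g • b = d := by
  obtain ⟨g1, hg1⟩ := MulAction.exists_smul_eq G a P
  obtain ⟨g2, hg2⟩ := MulAction.exists_smul_eq G c P
  have hb' : g1 • b ≠ P := by
    intro he; rw [← hg1] at he; exact hab' (smul_left_cancel g1 he).symm
  have hd' : g2 • d ≠ P := by
    intro he; rw [← hg2] at he; exact hcd (smul_left_cancel g2 he).symm
  obtain ⟨m, hm, hmb⟩ := h.hZ3b (g1 • b) (g2 • d) hb' hd'
  refine ⟨g2⁻¹ * m * g1, ?_, ?_⟩
  · rw [mul_smul, mul_smul, hg1, h.smul_P_of_mem_centralizer hm, inv_smul_eq_iff, hg2]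
  · rw [mul_smul, mul_smul, hmb, inv_smul_smul]

/-- the two point stabilizer is nontrivial -/
theorem exists_D_ne (Q : Sylow 2 G) (hQ : Q ≠ P) : ∃ d : G, d ≠ 1 ∧ d • P = P ∧ d • Q = Q := by
  obtain ⟨s, t, hsP, htP, hs, ht, hst⟩ := h.exists_two_invol
  obtain ⟨d, hd1, hd2, hd3⟩ := exists_conj_sylow h.hab P h.ne_bot h.hnn Q hQ hs hsP ht htP
  refine ⟨d, ?_, hd1, hd2⟩
  rintro rfl
  apply hst
  simpa using hd3

theorem stronglyEmbedded : Cfsg.IsStronglyEmbedded (normalizer ((P : Subgroup G) : Set G)) :=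
  stronglyEmbedded_normalizer h.hab P h.ne_bot h.hnn

theorem conj_mem_normalizer_of_fix {u d : G} {Q : Sylow 2 G} (hu : u • P = Q) (hdQ : d • Q = Q) :
    u⁻¹ * d * u ∈ normalizer ((P : Subgroup G) : Set G) := by
  rw [mem_normalizer_iff_smul, mul_smul, mul_smul, hu, hdQ, ← hu, inv_smul_smul]

theorem odd_orderOf_of_fix {d : G} {Q : Sylow 2 G} (hQ : Q ≠ P) (hdP : d • P = P)
    (hdQ : d • Q = Q) : Odd (orderOf d) := by
  obtain ⟨u, hu, huQ⟩ := exists_swap h.hab P h.ne_bot h.hnn Q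
  have huN : u ∉ normalizer ((P : Subgroup G) : Set G) := by
    rw [mem_normalizer_iff_smul, huQ]; exact hQ
  have hodd := h.stronglyEmbedded.2.2 u huN
  have hd : d ∈ normalizer ((P : Subgroup G) : Set G) ⊓
      (normalizer ((P : Subgroup G) : Set G)).map (MulAut.conj u).toMonoidHom := by
    refine ⟨(mem_normalizer_iff_smul P d).mpr hdP, ?_⟩
    exact (mem_conj_map _ u d).mpr (h.conj_mem_normalizer_of_fix huQ hdQ)
  have hdvd : orderOf d ∣ Nat.card ↥(normalizer ((P : Subgroup G) : Set G) ⊓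
      (normalizer ((P : Subgroup G) : Set G)).map (MulAut.conj u).toMonoidHom) := by
    have := orderOf_dvd_natCard (⟨d, hd⟩ : ↥(normalizer ((P : Subgroup G) : Set G) ⊓
      (normalizer ((P : Subgroup G) : Set G)).map (MulAut.conj u).toMonoidHom))
    rwa [Subgroup.orderOf_mk] at this
  exact Odd.of_dvd_nat hodd hdvd

theorem inverts {u d : G} {Q : Sylow 2 G} (hQ : Q ≠ P) (hu : orderOf u = 2) (huQ : u • P = Q)
    (hdP : d • P = P) (hdQ : d • Q = Q) : u * d * u⁻¹ = d⁻¹ := by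
  have huN : u ∉ normalizer ((P : Subgroup G) : Set G) := by
    rw [mem_normalizer_iff_smul, huQ]; exact hQ
  exact h.hinv u hu huN d ((mem_normalizer_iff_smul P d).mpr hdP)
    (h.conj_mem_normalizer_of_fix huQ hdQ)

omit h in
theorem mem_of_sq_mem_of_odd {K : Subgroup G} {d : G} (hodd : Odd (orderOf d)) (hd : d * d ∈ K) :
    d ∈ K := by
  obtain ⟨k, hk⟩ := hodd
  have h1 : d = (d * d) ^ (k + 1) := by
    rw [← pow_two, ← pow_mul]
    have : 2 * (k + 1) = orderOf d + 1 := by omega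
    rw [this, pow_succ, pow_orderOf_eq_one, one_mul]
  rw [h1]
  exact K.pow_mem hd _

/-- a normal subgroup containing an involution is everything -/
theorem eq_top_of_invol_mem (K : Subgroup G) [hK : K.Normal] {i : G} (hi : orderOf i = 2)
    (hiK : i ∈ K) : K = ⊤ := by
  have hall : ∀ j : G, orderOf j = 2 → j ∈ K := by
    intro j hj
    obtain ⟨c, hc⟩ := isConj_iff.mp (isConj_invol h.stronglyEmbedded hi hj)
    rw [← hc]
    exact hK.conj_mem i hiK c
  obtain ⟨Q0, hQ0⟩ := h.exists_other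
  obtain ⟨u, hu, huQ⟩ := exists_swap h.hab P h.ne_bot h.hnn Q0
  have huK : u ∈ K := hall u hu
  -- the two point stabilizer lies in K
  have hD : ∀ d : G, d • P = P → d • Q0 = Q0 → d ∈ K := by
    intro d hdP hdQ
    apply mem_of_sq_mem_of_odd (h.odd_orderOf_of_fix hQ0 hdP hdQ)
    have hinv := h.inverts hQ0 hu huQ hdP hdQ
    have h1 : u * d⁻¹ * u⁻¹ = d := by
      have := congrArg (·⁻¹) hinv
      simpa [mul_assoc] using this
    have h2 : d * d = (d * u * d⁻¹) * u⁻¹ := by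
      calc d * d = d * (u * d⁻¹ * u⁻¹) := by rw [h1]
        _ = (d * u * d⁻¹) * u⁻¹ := by group
    rw [h2]
    exact K.mul_mem (hK.conj_mem u huK d) (K.inv_mem huK)
  -- the centralizer of P lies in K
  obtain ⟨d, hd1, hdP, hdQ⟩ := h.exists_D_ne Q0 hQ0
  have hdK : d ∈ K := hD d hdP hdQ
  have hdN : d ∈ normalizer ((P : Subgroup G) : Set G) := (mem_normalizer_iff_smul P d).mpr hdP
  have hconjM : ∀ x ∈ centralizer ((P : Subgroup G) : Set G),
      d * x * d⁻¹ ∈ centralizer ((P : Subgroup G) : Set G) := by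
    intro x hx
    rw [Subgroup.mem_centralizer_iff]
    intro p hp
    have hp' : d⁻¹ * p * d ∈ (P : Subgroup G) :=
      (smul_sylow_mem_iff d p P).mp (by rw [hdP]; exact hp)
    have := Subgroup.mem_centralizer_iff.mp hx _ hp'
    calc p * (d * x * d⁻¹) = d * ((d⁻¹ * p * d) * x) * d⁻¹ := by group
      _ = d * (x * (d⁻¹ * p * d)) * d⁻¹ := by rw [this]
      _ = d * x * d⁻¹ * p := by group
  have hM : ∀ x ∈ centralizer ((P : Subgroup G) : Set G), x ∈ K := by
    let f : ↥(centralizer ((P : Subgroup G) : Set G)) → ↥(centralizer ((P : Subgroup G) : Set G)) :=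
      fun x => ⟨(x : G)⁻¹ * (d * x * d⁻¹), Subgroup.mul_mem _ (Subgroup.inv_mem _ x.2) (hconjM x x.2)⟩
    have hinj : Function.Injective f := by
      intro x y hxy
      have h1 : (x : G)⁻¹ * (d * x * d⁻¹) = (y : G)⁻¹ * (d * y * d⁻¹) := congrArg Subtype.val hxy
      have hzM : (y : G) * (x : G)⁻¹ ∈ centralizer ((P : Subgroup G) : Set G) :=
        Subgroup.mul_mem _ y.2 (Subgroup.inv_mem _ x.2)
      have h2 : d * (y : G) * d⁻¹ = (y : G) * (x : G)⁻¹ * (d * x * d⁻¹) := by
        rw [mul_assoc (y : G), h1]; group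
      have hdz : d * ((y : G) * (x : G)⁻¹) = ((y : G) * (x : G)⁻¹) * d := by
        have h3 : d * ((y : G) * (x : G)⁻¹) * d⁻¹ = (d * y * d⁻¹) * (d * x * d⁻¹)⁻¹ := by group
        rw [h2] at h3
        have h4 : d * ((y : G) * (x : G)⁻¹) * d⁻¹ = (y : G) * (x : G)⁻¹ := by
          rw [h3]; group
        calc d * ((y : G) * (x : G)⁻¹) = (d * ((y : G) * (x : G)⁻¹) * d⁻¹) * d := by group
          _ = ((y : G) * (x : G)⁻¹) * d := by rw [h4]
      by_contra hne
      have hz1 : (y : G) * (x : G)⁻¹ ≠ 1 := by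
        intro he
        apply hne
        apply Subtype.ext
        have := mul_inv_eq_one.mp he
        exact this.symm
      have hfix : d • (((y : G) * (x : G)⁻¹) • Q0) = ((y : G) * (x : G)⁻¹) • Q0 := by
        rw [← mul_smul, hdz, mul_smul, hdQ]
      have hzQ : ((y : G) * (x : G)⁻¹) • Q0 ≠ Q0 := fun e => hz1 (h.hZ3a Q0 hQ0 _ hzM e)
      have hzP : ((y : G) * (x : G)⁻¹) • Q0 ≠ P := by
        intro he
        apply hQ0
        have := h.smul_P_of_mem_centralizer hzM
        exact smul_left_cancel _ (he.trans this.symm)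
      exact hd1 (h.hZ2 P Q0 _ (Ne.symm hQ0) (Ne.symm hzQ) (Ne.symm hzP) d hdP hdQ hfix)
    have hsurj := Finite.injective_iff_surjective.mp hinj
    intro x hx
    obtain ⟨y, hy⟩ := hsurj ⟨x, hx⟩
    have h1 : x = (y : G)⁻¹ * (d * y * d⁻¹) := (congrArg Subtype.val hy).symm
    have h2 : (y : G)⁻¹ * (d * y * d⁻¹) = ((y : G)⁻¹ * d * ((y : G)⁻¹)⁻¹) * d⁻¹ := by group
    rw [h1, h2]
    exact K.mul_mem (hK.conj_mem d hdK _) (K.inv_mem hdK)
  -- the normalizer of P lies in K
  have hN : ∀ n : G, n • P = P → n ∈ K := by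
    intro n hn
    obtain ⟨t, htP, ht⟩ := exists_invol_mem P h.ne_bot
    have hntP : n * t * n⁻¹ ∈ (P : Subgroup G) := by
      have := conj_mem_smul_sylow n t P htP
      rwa [hn] at this
    have hnt : orderOf (n * t * n⁻¹) = 2 := by rw [orderOf_conj']; exact ht
    obtain ⟨e, heP, heQ, he⟩ := exists_conj_sylow h.hab P h.ne_bot h.hnn Q0 hQ0 ht htP hnt hntP
    have hc : (e⁻¹ * n) * t = t * (e⁻¹ * n) := by
      have : e⁻¹ * (n * t * n⁻¹) * e = t := by rw [← he]; group
      calc (e⁻¹ * n) * t = (e⁻¹ * (n * t * n⁻¹) * e) * (e⁻¹ * n) := by group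
        _ = t * (e⁻¹ * n) := by rw [this]
    have hmem := mem_centralizer_of_comm_invol h.hab P ht htP hc
    have : n = e * (e⁻¹ * n) := by group
    rw [this]
    exact K.mul_mem (hD e heP heQ) (hM _ hmem)
  rw [eq_top_iff]
  intro g _
  by_cases hg : g • P = P
  · exact hN g hg
  · obtain ⟨c, hcM, hc⟩ := h.hZ3b Q0 (g • P) hQ0 hg
    have h1 : ((c * u)⁻¹ * g) • P = P := by
      rw [mul_smul, ← hc, ← huQ, ← mul_smul c u, inv_smul_smul]
    have : g = (c * u) * ((c * u)⁻¹ * g) := by group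
    rw [this]
    exact K.mul_mem (K.mul_mem (hM c hcM) huK) (hN _ h1)

/-- a normal subgroup without involutions is trivial -/
theorem eq_bot_of_no_invol (K : Subgroup G) [hK : K.Normal]
    (hno : ∀ i ∈ K, orderOf i ≠ 2) : K = ⊥ := by
  have hcop : (Nat.card K).Coprime 2 := by
    rw [Nat.coprime_two_right]
    by_contra hodd
    rw [Nat.not_odd_iff_even] at hodd
    obtain ⟨s, hsK, hs⟩ := exists_invol_of_even K hodd
    exact hno s hsK hs
  obtain ⟨s, t, hsP, htP, hs, ht, hst⟩ := h.exists_two_invol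
  have hcomm : s * t = t * s := sylow_comm h.hab P s hsP t htP
  have hstP : s * t ∈ (P : Subgroup G) := Subgroup.mul_mem _ hsP htP
  have hst2 : orderOf (s * t) = 2 := by
    apply orderOf_two_of
    · calc s * t * (s * t) = s * (t * s) * t := by group
        _ = s * (s * t) * t := by rw [hcomm]
        _ = (s * s) * (t * t) := by group
        _ = 1 := by rw [mul_self' hs, mul_self' ht, one_mul]
    · intro he
      apply hst
      have : s = t⁻¹ := eq_inv_of_mul_eq_one_left he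
      rw [this, inv_self ht]
  have key : ∀ r : G, orderOf r = 2 → r ∈ (P : Subgroup G) →
      K ⊓ centralizer ({r} : Set G) ≤ centralizer ((P : Subgroup G) : Set G) := by
    intro r hr hrP x hx
    have hxr : r * x = x * r := Subgroup.mem_centralizer_iff.mp hx.2 r rfl
    exact mem_centralizer_of_comm_invol h.hab P hr hrP hxr.symm
  have hKM : K ≤ centralizer ((P : Subgroup G) : Set G) :=
    Cfsg.Agent.Helper21.StdRankOne.le_of_four_generation K _ hK hcop s t (mul_self' hs)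
      (mul_self' ht) hcomm (ne_one' hs) (ne_one' ht) hst (key s hs hsP) (key t ht htP)
      (key (s * t) hst2 hstP)
  rw [eq_bot_iff]
  intro k hk
  rw [Subgroup.mem_bot]
  apply h.faithful
  intro Q
  obtain ⟨g, rfl⟩ := MulAction.exists_smul_eq G P Q
  have h1 : g⁻¹ * k * g ∈ K := by
    have := hK.conj_mem k hk g⁻¹
    rwa [inv_inv] at this
  have h2 := h.smul_P_of_mem_centralizer (hKM h1)
  calc k • g • P = g • ((g⁻¹ * k * g) • P) := by
        rw [← mul_smul, ← mul_smul]; congr 1; group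
    _ = g • P := by rw [h2]

theorem isSimpleGroup : IsSimpleGroup G := by
  have : Nontrivial G := by
    obtain ⟨t, _, ht⟩ := exists_invol_mem P h.ne_bot
    exact ⟨⟨t, 1, ne_one' ht⟩⟩
  refine ⟨fun K hK => ?_⟩
  by_cases hinv : ∃ i ∈ K, orderOf i = 2
  · obtain ⟨i, hiK, hi⟩ := hinv
    right
    exact h.eq_top_of_invol_mem K hi hiK
  · left
    push Not at hinv
    exact h.eq_bot_of_no_invol K hinv

theorem isZassenhausGroup : Cfsg.IsZassenhausGroup G (Sylow 2 G) := by
  obtain ⟨Q0, hQ0⟩ := h.exists_other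
  obtain ⟨d, hd1, hdP, hdQ⟩ := h.exists_D_ne Q0 hQ0
  refine ⟨⟨?_⟩, ?_, ?_, ?_, ?_⟩
  · intro g g' H
    have : g'⁻¹ * g = 1 := by
      apply h.faithful
      intro Q
      rw [mul_smul, H Q, inv_smul_smul]
    exact (inv_mul_eq_one.mp this).symm
  · exact MulAction.is_two_pretransitive_iff.mpr (fun hab' hcd => h.two_trans hab' hcd)
  · intro g a b c hab' hbc hac ha hb hc
    exact h.hZ2 a b c hab' hbc hac g ha hb hc
  · exact ⟨d, hd1, P, Q0, Ne.symm hQ0, hdP, hdQ⟩
  · intro N hN htr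
    have hs := h.isSimpleGroup
    rcases hN.eq_bot_or_eq_top with rfl | rfl
    · exfalso
      obtain ⟨n, hn⟩ := MulAction.exists_smul_eq ↥(⊥ : Subgroup G) P Q0
      have h1 : (n : G) = 1 := Subgroup.mem_bot.mp n.2
      have h2 : (n : G) • P = Q0 := hn
      rw [h1, one_smul] at h2
      exact hQ0 h2.symm
    · refine ⟨P, ?_⟩
      intro hbot
      have hmem : (⟨d, Subgroup.mem_top d⟩ : ↥(⊤ : Subgroup G)) ∈
          MulAction.stabilizer ↥(⊤ : Subgroup G) P := by
        rw [MulAction.mem_stabilizer_iff]; exact hdP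
      rw [hbot, Subgroup.mem_bot] at hmem
      exact hd1 (congrArg Subtype.val hmem)

/-- `C_G(P)` is in bijection with the Sylow 2-subgroups other than `P` -/
theorem card_centralizer_add_one [Fintype (Sylow 2 G)] :
    Nat.card ↥(centralizer ((P : Subgroup G) : Set G)) + 1 = Fintype.card (Sylow 2 G) := by
  classical
  obtain ⟨Q0, hQ0⟩ := h.exists_other
  have hne : ∀ c : ↥(centralizer ((P : Subgroup G) : Set G)), (c : G) • Q0 ≠ P := by
    intro c he
    apply hQ0
    have := h.smul_P_of_mem_centralizer c.2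
    exact smul_left_cancel _ (he.trans this.symm)
  let f : ↥(centralizer ((P : Subgroup G) : Set G)) → {Q : Sylow 2 G // Q ≠ P} :=
    fun c => ⟨(c : G) • Q0, hne c⟩
  have hbij : Function.Bijective f := by
    constructor
    · intro c c' hcc
      have h1 : (c : G) • Q0 = (c' : G) • Q0 := congrArg Subtype.val hcc
      have h2 : ((c' : G)⁻¹ * (c : G)) • Q0 = Q0 := by rw [mul_smul, h1, inv_smul_smul]
      have h3 := h.hZ3a Q0 hQ0 _ (Subgroup.mul_mem _ (Subgroup.inv_mem _ c'.2) c.2) h2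
      apply Subtype.ext
      exact (inv_mul_eq_one.mp h3).symm
    · rintro ⟨Q, hQ⟩
      obtain ⟨c, hc, hcQ⟩ := h.hZ3b Q0 Q hQ0 hQ
      exact ⟨⟨c, hc⟩, Subtype.ext hcQ⟩
  rw [Nat.card_congr (Equiv.ofBijective f hbij), Nat.card_eq_fintype_card,
    ← Fintype.card_option, Fintype.card_congr (Equiv.optionSubtypeNe P)]

/-- every element of `C_G(P)` has square one -/
theorem sq_eq_one_of_mem_centralizer : ∀ x ∈ centralizer ((P : Subgroup G) : Set G), x ^ 2 = 1 := by
  classical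
  let _ : Fintype (Sylow 2 G) := Fintype.ofFinite _
  have := h.isSimpleGroup
  have hZ := h.isZassenhausGroup
  obtain ⟨Q0, hQ0⟩ := h.exists_other
  obtain ⟨u, hu, huQ⟩ := exists_swap h.hab P h.ne_bot h.hnn Q0
  have huN : u ∉ normalizer ((P : Subgroup G) : Set G) := by
    rw [mem_normalizer_iff_smul, huQ]; exact hQ0
  have hstabP : MulAction.stabilizer G P = normalizer ((P : Subgroup G) : Set G) :=
    Sylow.stabilizer_eq_normalizer P
  have hodd : Odd (Nat.card ↥(MulAction.stabilizer G P ⊓ MulAction.stabilizer G Q0 : Subgroup G)) := by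
    have := h.stronglyEmbedded.2.2 u huN
    rw [← huQ, MulAction.stabilizer_smul_eq_stabilizer_map_conj, hstabP]
    exact this
  have hMle : centralizer ((P : Subgroup G) : Set G) ≤ MulAction.stabilizer G P := by
    rw [hstabP]; exact Subgroup.centralizer_le_normalizer _
  have hfix : ∀ x ∈ centralizer ((P : Subgroup G) : Set G), x ≠ 1 → ∀ c : Sylow 2 G,
      x • c = c → c = P := by
    intro x hx hx1 c hc
    by_contra hcP
    exact hx1 (h.hZ3a c hcP x hx hc)
  have hcomm := centralizer_sylow_comm h.hab P h.ne_bot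
  have hb := Cfsg.Agent.Helper4.ZassFeitAbel.bound hZ (Ne.symm hQ0) hodd
    (centralizer ((P : Subgroup G) : Set G)) hMle h.card_centralizer_add_one hfix hcomm
  have hFn : ((centralizer ((P : Subgroup G) : Set G)).subgroupOf (MulAction.stabilizer G P)).Normal := by
    refine ⟨fun n hn g => ?_⟩
    rw [Subgroup.mem_subgroupOf] at hn ⊢
    have hg : (g : G) ∈ normalizer ((P : Subgroup G) : Set G) := by rw [← hstabP]; exact g.2
    simp only [Subgroup.coe_mul, Subgroup.coe_inv]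
    rw [Subgroup.mem_centralizer_iff]
    intro p hp
    have hgP : (g : G) • P = P := (mem_normalizer_iff_smul P g).mp hg
    have hp' : (g : G)⁻¹ * p * g ∈ (P : Subgroup G) :=
      (smul_sylow_mem_iff (g : G) p P).mp (by rw [hgP]; exact hp)
    have := Subgroup.mem_centralizer_iff.mp hn _ hp'
    calc p * ((g : G) * n * (g : G)⁻¹) = g * (((g : G)⁻¹ * p * g) * n) * (g : G)⁻¹ := by group
      _ = g * ((n : G) * ((g : G)⁻¹ * p * g)) * (g : G)⁻¹ := by rw [this]
      _ = (g : G) * n * (g : G)⁻¹ * p := by group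
  have hreg : ∀ y z : Sylow 2 G, y ≠ P → z ≠ P →
      ∃! c : ↥(centralizer ((P : Subgroup G) : Set G)), (c : G) • y = z := by
    intro y z hy hz
    obtain ⟨c, hc, hcy⟩ := h.hZ3b y z hy hz
    refine ⟨⟨c, hc⟩, hcy, ?_⟩
    intro c' hc'
    have h2 : ((c : G)⁻¹ * (c' : G)) • y = y := by
      rw [mul_smul, hc', ← hcy, inv_smul_smul]
    have h3 := h.hZ3a y hy _ (Subgroup.mul_mem _ (Subgroup.inv_mem _ hc) c'.2) h2
    apply Subtype.ext
    exact (inv_mul_eq_one.mp h3).symm
  obtain ⟨_, p, f, hp, hexp, _⟩ := Cfsg.Agent.S0738.result hZ (Ne.symm hQ0) hb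
    (centralizer ((P : Subgroup G) : Set G)) hMle hFn hreg
  obtain ⟨t, htP, ht⟩ := exists_invol_mem P h.ne_bot
  have htM : t ∈ centralizer ((P : Subgroup G) : Set G) := sylow_le_centralizer h.hab P htP
  have h2p : 2 ∣ p := by
    rw [← ht]; exact orderOf_dvd_of_pow_eq_one (hexp t htM)
  have hp2 : p = 2 := ((Nat.prime_dvd_prime_iff_eq Nat.prime_two hp).mp h2p).symm
  intro x hx
  rw [← hp2]; exact hexp x hx

end C2

/-- **Case 2** from the structure statements. -/
theorem case2_of_structure {P : Sylow 2 G} (h : C2 P) :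
    ∀ t c : G, orderOf t = 2 → c * t = t * c → c ^ 2 = 1 := by
  intro t c ht hct
  obtain ⟨Q, htQ⟩ := exists_sylow_of_invol ht
  obtain ⟨g, rfl⟩ := MulAction.exists_smul_eq G P Q
  have ht' : g⁻¹ * t * g ∈ (P : Subgroup G) := (smul_sylow_mem_iff g t P).mp htQ
  have ho : orderOf (g⁻¹ * t * g) = 2 := by
    have := orderOf_conj' g⁻¹ t
    rw [inv_inv] at this
    rw [this]; exact ht
  have hc' : (g⁻¹ * c * g) * (g⁻¹ * t * g) = (g⁻¹ * t * g) * (g⁻¹ * c * g) := by
    calc (g⁻¹ * c * g) * (g⁻¹ * t * g) = g⁻¹ * (c * t) * g := by group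
      _ = g⁻¹ * (t * c) * g := by rw [hct]
      _ = (g⁻¹ * t * g) * (g⁻¹ * c * g) := by group
  have hmem := mem_centralizer_of_comm_invol h.hab P ho ht' hc'
  have hsq := h.sq_eq_one_of_mem_centralizer _ hmem
  have : (g⁻¹ * c * g) ^ 2 = g⁻¹ * c ^ 2 * g := by
    rw [pow_two, pow_two]; group
  rw [this] at hsq
  have : c ^ 2 = g * (g⁻¹ * c ^ 2 * g) * g⁻¹ := by group
  rw [this, hsq]; group

end Cfsg.Agent.Helper4.AbInv
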