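import Mathlib
import Cfsg.Prelude.Def_Involutions
import Cfsg.Agent.Lib.Helper4.AbInv.Basic
import Cfsg.Agent.Lib.Helper34.PPrimeCore
import Cfsg.Agent.Lib.Helper77.AbInvT3b3
import Cfsg.Agent.Lib.Helper22.SLQuasi
import Cfsg.Agent.Lib.Helper53.UniqueInvol1
import Cfsg.Agent.Lib.Helper21.StdRankOne
import Cfsg.Agent.S1230
import Cfsg.Agent.Lib.Helper42.AbInvT3a
import Cfsg.Agent.Lib.Helper42.AbInvR1

/-!
# S2202: the reduction when `O(G) ≠ 1` (helper4)
-/

set_option autoImplicit false

namespace Cfsg.Agent.Helper4.AbInv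

open Subgroup Cfsg.Agent.Helper45.SE

universe u

section
variable {G : Type*} [Group G] [Finite G]

theorem exists_two_invol_of_not_cyclic (hab : AbInvHyp G) (P : Sylow 2 G)
    (hnc : ¬ IsCyclic ↥(P : Subgroup G)) : ∃ s t : G, s ∈ (P : Subgroup G) ∧
    t ∈ (P : Subgroup G) ∧ orderOf s = 2 ∧ orderOf t = 2 ∧ s ≠ t := by
  by_contra hcon
  push Not at hcon
  apply hnc
  apply Cfsg.Agent.Helper53.isCyclic_of_comm_of_unique_invol P.isPGroup'
  · intro x y
    exact Subtype.ext (sylow_comm hab P x x.2 y y.2)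
  · intro x y hx hy
    have hx' : orderOf (x : G) = 2 := by rw [Subgroup.orderOf_coe]; exact hx
    have hy' : orderOf (y : G) = 2 := by rw [Subgroup.orderOf_coe]; exact hy
    exact Subtype.ext (hcon x y x.2 y.2 hx' hy')

/-- a normal subgroup of odd order centralizes a noncyclic Sylow 2-subgroup -/
theorem normal_odd_le_centralizer (hab : AbInvHyp G) (P : Sylow 2 G)
    (hnc : ¬ IsCyclic ↥(P : Subgroup G)) (K : Subgroup G) [hK : K.Normal]
    (hcop : (Nat.card K).Coprime 2) : K ≤ centralizer ((P : Subgroup G) : Set G) := by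
  obtain ⟨s, t, hsP, htP, hs, ht, hst⟩ := exists_two_invol_of_not_cyclic hab P hnc
  have hcomm : s * t = t * s := sylow_comm hab P s hsP t htP
  have hstP : s * t ∈ (P : Subgroup G) := Subgroup.mul_mem _ hsP htP
  have hst2 : orderOf (s * t) = 2 := by
    apply orderOf_two_of
    · calc s * t * (s * t) = s * (t * s) * t := by group
        _ = s * (s * t) * t := by rw [hcomm]
        _ = (s * s) * (t * t) := by group
        _ = 1 := by rw [mul_self' hs, mul_self' ht, one_mul]
    · intro he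
      apply hst
      have : s = t⁻¹ := eq_inv_of_mul_eq_one_left he
      rw [this, inv_self ht]
  have key : ∀ r : G, orderOf r = 2 → r ∈ (P : Subgroup G) →
      K ⊓ centralizer ({r} : Set G) ≤ centralizer ((P : Subgroup G) : Set G) := by
    intro r hr hrP x hx
    have hxr : r * x = x * r := Subgroup.mem_centralizer_iff.mp hx.2 r rfl
    exact mem_centralizer_of_comm_invol hab P hr hrP hxr.symm
  exact Cfsg.Agent.Helper21.StdRankOne.le_of_four_generation K _ hK hcop s t (mul_self' hs)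
    (mul_self' ht) hcomm (ne_one' hs) (ne_one' ht) hst (key s hs hsP) (key t ht htP)
    (key (s * t) hst2 hstP)

end

/-- two-elements of an internal product `L × B` (`B` central of odd order) lie in `L` -/
theorem mem_of_two_power {G : Type*} [Group G] {L B : Subgroup G} (hB : B ≤ Subgroup.center G)
    (hodd : Odd (Nat.card B)) (hLB : L ⊓ B = ⊥) (hsup : L ⊔ B = ⊤) [hL : L.Normal] {x : G} {n : ℕ}
    (hx : x ^ (2 ^ n) = 1) : x ∈ L := by
  have hxtop : x ∈ L ⊔ B := by rw [hsup]; trivial
  have hxset : x ∈ ((L ⊔ B : Subgroup G) : Set G) := hxtop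
  rw [Subgroup.normal_mul] at hxset
  obtain ⟨l, hl, b, hb, rfl⟩ := Set.mem_mul.mp hxset
  have hcomm : Commute l b := ((Subgroup.mem_center_iff.mp (hB hb)) l)
  have h1 : l ^ (2 ^ n) * b ^ (2 ^ n) = 1 := by rw [← hcomm.mul_pow]; exact hx
  have h2 : b ^ (2 ^ n) ∈ L ⊓ B := by
    refine ⟨?_, B.pow_mem hb _⟩
    have : b ^ (2 ^ n) = (l ^ (2 ^ n))⁻¹ := eq_inv_of_mul_eq_one_right h1
    rw [this]; exact L.inv_mem (L.pow_mem hl _)
  rw [hLB, Subgroup.mem_bot] at h2
  have h3 : orderOf b ∣ 2 ^ n := orderOf_dvd_of_pow_eq_one h2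
  have h4 : orderOf b ∣ Nat.card B := by
    have := orderOf_dvd_natCard (⟨b, hb⟩ : ↥B)
    rwa [Subgroup.orderOf_mk] at this
  have h5 : Odd (orderOf b) := Odd.of_dvd_nat hodd h4
  have h6 : orderOf b = 1 := by
    obtain ⟨k, hk, hk2⟩ := (Nat.dvd_prime_pow Nat.prime_two).mp h3
    rcases Nat.eq_zero_or_pos k with rfl | hpos
    · simpa using hk2
    · exfalso
      rw [hk2] at h5
      exact (Nat.not_even_iff_odd.mpr h5) (Nat.even_pow.mpr ⟨even_two, hpos.ne'⟩)
  have hb1 : b = 1 := orderOf_eq_one_iff.mp h6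
  rw [hb1, mul_one]; exact hl

section
variable {G : Type u} [Group G] [Finite G]

/-- the core of the reduction -/
theorem reduction_core (hab : AbInvHyp G) (P : Sylow 2 G)
    (hnc : ¬ IsCyclic ↥(P : Subgroup G)) (hnn : ¬ (P : Subgroup G).Normal)
    (hK1 : Cfsg.pPrimeCore 2 G ≠ ⊥)
    (hcit : ∀ t c : G ⧸ Cfsg.pPrimeCore 2 G, orderOf t = 2 → c * t = t * c → c ^ 2 = 1)
    (T : Sylow 2 (G ⧸ Cfsg.pPrimeCore 2 G))
    (hTnc : ¬ IsCyclic ↥(T : Subgroup (G ⧸ Cfsg.pPrimeCore 2 G)))
    (hTnn : ¬ (T : Subgroup (G ⧸ Cfsg.pPrimeCore 2 G)).Normal)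
    (IHJ : ∀ Y : Subgroup G, Y ≠ ⊤ → Even (Nat.card Y) → Concl ↥Y) : Good G := by
  classical
  haveI : Fact (Nat.Prime 2) := ⟨Nat.prime_two⟩
  have hKcop : (Nat.card (Cfsg.pPrimeCore 2 G)).Coprime 2 :=
    Cfsg.Agent.Helper34.card_pPrimeCore_coprime 2
  have hKodd : Odd (Nat.card (Cfsg.pPrimeCore 2 G)) := Nat.coprime_two_right.mp hKcop
  have hP : (P : Subgroup G) ≠ ⊥ := by
    intro hP; apply hnc; rw [hP]; exact isCyclic_of_subsingleton
  -- the quotient is PSL2(F)
  have hC : ∀ t : G ⧸ Cfsg.pPrimeCore 2 G, orderOf t = 2 →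
      IsMulCommutative ↥(centralizer ({t} : Set (G ⧸ Cfsg.pPrimeCore 2 G))) ∧
      ∀ c ∈ centralizer ({t} : Set (G ⧸ Cfsg.pPrimeCore 2 G)), c ^ 2 = 1 := by
    intro t ht
    have hsq : ∀ c ∈ centralizer ({t} : Set (G ⧸ Cfsg.pPrimeCore 2 G)), c ^ 2 = 1 :=
      fun c hc => hcit t c ht (Subgroup.mem_centralizer_singleton_iff.mp hc)
    refine ⟨⟨⟨fun a b => ?_⟩⟩, hsq⟩
    apply Subtype.ext
    have ha := hsq a a.2
    have hb := hsq b b.2
    have hab' := hsq (a * b) (Subgroup.mul_mem _ a.2 b.2)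
    rw [pow_two] at ha hb hab'
    simp only [Subgroup.coe_mul] at hab' ⊢
    have h1 : (a : G ⧸ Cfsg.pPrimeCore 2 G)⁻¹ = a := inv_eq_of_mul_eq_one_left ha
    have h2 : (b : G ⧸ Cfsg.pPrimeCore 2 G)⁻¹ = b := inv_eq_of_mul_eq_one_left hb
    have h3 : ((a : G ⧸ Cfsg.pPrimeCore 2 G) * b)⁻¹ = a * b := inv_eq_of_mul_eq_one_left hab'
    rw [← h3, mul_inv_rev, h1, h2]
  obtain ⟨F, hField, hFin, hcardF, ⟨e⟩⟩ := Cfsg.Agent.S1230.result T hTnc hTnn hC
  obtain ⟨n, hn⟩ := (IsPGroup.iff_card).mp T.isPGroup'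
  have hn2 : 2 ≤ n := by
    by_contra hlt
    apply hTnc
    interval_cases n
    · rw [pow_zero] at hn
      haveI : Subsingleton ↥(T : Subgroup (G ⧸ Cfsg.pPrimeCore 2 G)) :=
        (Nat.card_eq_one_iff_unique.mp hn).1
      exact isCyclic_of_subsingleton
    · rw [pow_one] at hn
      exact isCyclic_of_prime_card hn
  have h4 : 4 ≤ Fintype.card F := by
    rw [hcardF, hn]
    calc 4 = 2 ^ 2 := by norm_num
      _ ≤ 2 ^ n := Nat.pow_le_pow_right (by norm_num) hn2
  have hchar : CharP F 2 := by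
    have hp := CharP.char_is_prime F (ringChar F)
    obtain ⟨m, _, hm⟩ := FiniteField.card F (ringChar F)
    have h1 : ringChar F ∣ 2 ^ n := by
      rw [← hn, ← hcardF, hm]; exact dvd_pow_self _ m.ne_zero
    have h2 : ringChar F = 2 :=
      (Nat.prime_dvd_prime_iff_eq hp Nat.prime_two).mp (hp.dvd_of_dvd_pow h1)
    have := ringChar.charP F
    rwa [h2] at this
  haveI : IsSimpleGroup (Matrix.ProjectiveSpecialLinearGroup (Fin 2) F) :=
    Cfsg.Agent.Helper22.SLQuasi.psl2_isSimpleGroup h4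
  haveI hsimple : IsSimpleGroup (G ⧸ Cfsg.pPrimeCore 2 G) := e.isSimpleGroup
  -- J, the normal closure of P
  have hPJ : (P : Subgroup G) ≤ normalClosure ((P : Subgroup G) : Set G) := le_normalClosure
  have hKP : Cfsg.pPrimeCore 2 G ≤ centralizer ((P : Subgroup G) : Set G) :=
    normal_odd_le_centralizer hab P hnc _ hKcop
  have hJK : normalClosure ((P : Subgroup G) : Set G) ≤
      centralizer ((Cfsg.pPrimeCore 2 G : Subgroup G) : Set G) := by
    apply normalClosure_le_normal
    intro p hp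
    rw [SetLike.mem_coe, Subgroup.mem_centralizer_iff]
    intro k hk
    exact (Subgroup.mem_centralizer_iff.mp (hKP hk) p hp).symm
  have hKab : ∀ k ∈ Cfsg.pPrimeCore 2 G, ∀ k' ∈ Cfsg.pPrimeCore 2 G, k * k' = k' * k :=
    fun k hk k' hk' => centralizer_sylow_comm hab P hP k (hKP hk) k' (hKP hk')
  obtain ⟨t, htP, ht⟩ := exists_invol_mem P hP
  have htK : t ∉ Cfsg.pPrimeCore 2 G := by
    intro htK
    have h1 : orderOf t ∣ Nat.card (Cfsg.pPrimeCore 2 G) := by
      have := orderOf_dvd_natCard (⟨t, htK⟩ : ↥(Cfsg.pPrimeCore 2 G))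
      rwa [Subgroup.orderOf_mk] at this
    rw [ht] at h1
    exact (Nat.not_even_iff_odd.mpr hKodd) (even_iff_two_dvd.mpr h1)
  have hsurj : Function.Surjective (QuotientGroup.mk' (Cfsg.pPrimeCore 2 G)) :=
    QuotientGroup.mk'_surjective _
  have hJmap : (normalClosure ((P : Subgroup G) : Set G)).map
      (QuotientGroup.mk' (Cfsg.pPrimeCore 2 G)) = ⊤ := by
    haveI : ((normalClosure ((P : Subgroup G) : Set G)).map
        (QuotientGroup.mk' (Cfsg.pPrimeCore 2 G))).Normal :=
      Subgroup.Normal.map inferInstance _ hsurj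
    rcases Subgroup.Normal.eq_bot_or_eq_top (H := (normalClosure ((P : Subgroup G) : Set G)).map
        (QuotientGroup.mk' (Cfsg.pPrimeCore 2 G))) inferInstance with hb | ht'
    · exfalso
      have h1 : QuotientGroup.mk' (Cfsg.pPrimeCore 2 G) t ∈
          (normalClosure ((P : Subgroup G) : Set G)).map (QuotientGroup.mk' (Cfsg.pPrimeCore 2 G)) :=
        Subgroup.mem_map_of_mem _ (hPJ htP)
      rw [hb, Subgroup.mem_bot, QuotientGroup.mk'_apply, QuotientGroup.eq_one_iff] at h1
      exact htK h1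
    · exact ht'
  have hsupJK : normalClosure ((P : Subgroup G) : Set G) ⊔ Cfsg.pPrimeCore 2 G = ⊤ := by
    rw [eq_top_iff]
    intro g _
    have h1 : QuotientGroup.mk' (Cfsg.pPrimeCore 2 G) g ∈
        (normalClosure ((P : Subgroup G) : Set G)).map (QuotientGroup.mk' (Cfsg.pPrimeCore 2 G)) := by
      rw [hJmap]; trivial
    obtain ⟨j, hj, hjg⟩ := h1
    have h2 : j⁻¹ * g ∈ Cfsg.pPrimeCore 2 G := by
      rw [← QuotientGroup.eq]; exact hjg
    have : g = j * (j⁻¹ * g) := by group
    rw [this]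
    exact Subgroup.mul_mem _ (Subgroup.mem_sup_left hj) (Subgroup.mem_sup_right h2)
  have hKcenter : Cfsg.pPrimeCore 2 G ≤ Subgroup.center G := by
    intro k hk
    rw [Subgroup.mem_center_iff]
    intro g
    have hg : g ∈ ((normalClosure ((P : Subgroup G) : Set G) ⊔ Cfsg.pPrimeCore 2 G : Subgroup G) :
        Set G) := by rw [hsupJK]; trivial
    rw [Subgroup.normal_mul] at hg
    obtain ⟨j, hj, k', hk', rfl⟩ := Set.mem_mul.mp hg
    have h1 : j * k = k * j := Subgroup.mem_centralizer_iff.mp (hJK hj) k hk |>.symm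
    calc j * k' * k = j * (k * k') := by rw [mul_assoc, hKab k' hk' k hk]
      _ = (j * k) * k' := by rw [mul_assoc]
      _ = k * (j * k') := by rw [h1, mul_assoc]
  -- every element of a conjugate of P is a 2-element
  obtain ⟨nP, hnP⟩ := (IsPGroup.iff_card).mp P.isPGroup'
  have hpow : ∀ x ∈ (P : Subgroup G), x ^ (2 ^ nP) = 1 := by
    intro x hx
    have := pow_card_eq_one' (G := ↥(P : Subgroup G)) (x := ⟨x, hx⟩)
    rw [hnP] at this
    exact congrArg Subtype.val this
  by_cases hJ : normalClosure ((P : Subgroup G) : Set G) = ⊤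
  · -- G is generated by conjugates of P: perfect central extension, contradiction
    exfalso
    have hperfQ : commutator (G ⧸ Cfsg.pPrimeCore 2 G) = ⊤ := by
      rcases Subgroup.Normal.eq_bot_or_eq_top
          (H := commutator (G ⧸ Cfsg.pPrimeCore 2 G)) inferInstance with hb | ht'
      · exfalso
        apply hTnn
        refine ⟨fun x hx g => ?_⟩
        have hcomm : g * x = x * g := by
          rw [commutator_eq_bot_iff_center_eq_top] at hb
          have hg : g ∈ Subgroup.center (G ⧸ Cfsg.pPrimeCore 2 G) := by rw [hb]; trivial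
          exact (Subgroup.mem_center_iff.mp hg x).symm
        rw [hcomm, mul_assoc, mul_inv_cancel, mul_one]
        exact hx
      · exact ht'
    have hPC : ((P : Subgroup G) : Set G) ⊆ commutator G := by
      intro p hp
      have h1 : QuotientGroup.mk' (Cfsg.pPrimeCore 2 G) p ∈
          (commutator G).map (QuotientGroup.mk' (Cfsg.pPrimeCore 2 G)) := by
        rw [_root_.commutator_def, Subgroup.map_commutator, Subgroup.map_top_of_surjective _ hsurj,
          ← _root_.commutator_def, hperfQ]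
        trivial
      obtain ⟨c, hc, hcp⟩ := h1
      have hk : c⁻¹ * p ∈ Cfsg.pPrimeCore 2 G := by
        rw [← QuotientGroup.eq]; exact hcp
      set k := c⁻¹ * p with hkdef
      have hpck : p = c * k := by rw [hkdef]; group
      have hck : Commute c k := ((Subgroup.mem_center_iff.mp (hKcenter hk)) c)
      have h2 : c ^ (2 ^ nP) * k ^ (2 ^ nP) = 1 := by
        rw [← hck.mul_pow, ← hpck]; exact hpow p hp
      have h3 : k ^ (2 ^ nP) ∈ commutator G := by
        have : k ^ (2 ^ nP) = (c ^ (2 ^ nP))⁻¹ := eq_inv_of_mul_eq_one_right h2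
        rw [this]; exact Subgroup.inv_mem _ (Subgroup.pow_mem _ hc _)
      have h4 : orderOf k ∣ Nat.card (Cfsg.pPrimeCore 2 G) := by
        have := orderOf_dvd_natCard (⟨k, hk⟩ : ↥(Cfsg.pPrimeCore 2 G))
        rwa [Subgroup.orderOf_mk] at this
      have h5 : (2 ^ nP).Coprime (orderOf k) :=
        Nat.Coprime.pow_left _ (Nat.Coprime.coprime_dvd_right h4 hKcop.symm)
      obtain ⟨m, hm⟩ := exists_pow_eq_self_of_coprime h5
      have h6 : k ∈ commutator G := by rw [← hm]; exact Subgroup.pow_mem _ h3 _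
      rw [SetLike.mem_coe, hpck]
      exact Subgroup.mul_mem _ hc h6
    have hperf : commutator G = ⊤ := by
      rw [eq_top_iff, ← hJ]
      exact normalClosure_le_normal hPC
    exact hK1 (Cfsg.Agent.Helper77.AbInv.central_odd_eq_bot _ hKcenter hKodd hperf hchar h4 e)
  · -- J is a proper subgroup: induction
    have hJev : Even (Nat.card (normalClosure ((P : Subgroup G) : Set G))) :=
      even_card_of_mem _ ht (hPJ htP)
    -- elements of J of 2-power order coming from conjugates of P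
    have hconjJ : ∀ g p : G, p ∈ (P : Subgroup G) →
        g * p * g⁻¹ ∈ normalClosure ((P : Subgroup G) : Set G) := by
      intro g p hp
      exact (inferInstance : (normalClosure ((P : Subgroup G) : Set G)).Normal).conj_mem p
        (hPJ hp) g
    rcases IHJ _ hJ hJev with h1 | h1 | h1
    · exfalso
      apply hnc
      have hc := h1 (P.subtype hPJ)
      rw [Sylow.coe_subtype] at hc
      exact isCyclic_of_surjective (Subgroup.subgroupOfEquivOfLe hPJ)
        (Subgroup.subgroupOfEquivOfLe hPJ).surjective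
    · exfalso
      apply hnn
      have hPn := h1 (P.subtype hPJ)
      rw [Sylow.coe_subtype] at hPn
      refine ⟨fun p hp g => ?_⟩
      -- g • P is a Sylow of J, equal to P
      have hQJ : ((g • P : Sylow 2 G) : Subgroup G) ≤ normalClosure ((P : Subgroup G) : Set G) := by
        intro x hx
        have hx' := (smul_sylow_mem_iff g x P).mp hx
        have := hconjJ g _ hx'
        have h2 : g * (g⁻¹ * x * g) * g⁻¹ = x := by group
        rwa [h2] at this
      haveI : ((P.subtype hPJ : Sylow 2 ↥(normalClosure ((P : Subgroup G) : Set G))) :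
          Subgroup ↥(normalClosure ((P : Subgroup G) : Set G))).Normal := by
        rw [Sylow.coe_subtype]; exact hPn
      have huniq := Sylow.unique_of_normal (P.subtype hPJ) inferInstance
      have heq : (g • P : Sylow 2 G).subtype hQJ = P.subtype hPJ := Subsingleton.elim _ _
      have hmem : (⟨g * p * g⁻¹, hconjJ g p hp⟩ : ↥(normalClosure ((P : Subgroup G) : Set G))) ∈
          ((g • P : Sylow 2 G).subtype hQJ : Subgroup ↥(normalClosure ((P : Subgroup G) : Set G))) := by
        rw [Sylow.coe_subtype, Subgroup.mem_subgroupOf]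
        exact conj_mem_smul_sylow g p P hp
      rw [heq, Sylow.coe_subtype, Subgroup.mem_subgroupOf] at hmem
      exact hmem
    · obtain ⟨LJ, BJ, hLn, hBc, hBodd, hLB, hsup, hcitJ⟩ := h1
      have hall : ∀ x : ↥(normalClosure ((P : Subgroup G) : Set G)), x ∈ LJ := by
        have hle : normalClosure ((P : Subgroup G) : Set G) ≤
            LJ.map (normalClosure ((P : Subgroup G) : Set G)).subtype := by
          unfold normalClosure
          rw [Subgroup.closure_le]
          intro x hx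
          obtain ⟨p, hp, hpx⟩ := Group.mem_conjugatesOfSet_iff.mp hx
          obtain ⟨g, rfl⟩ := isConj_iff.mp hpx
          have hxJ := hconjJ g p hp
          refine ⟨⟨g * p * g⁻¹, hxJ⟩, ?_, rfl⟩
          haveI := hLn
          apply mem_of_two_power hBc hBodd hLB hsup (n := nP)
          apply Subtype.ext
          show (g * p * g⁻¹) ^ (2 ^ nP) = 1
          have : (g * p * g⁻¹) ^ (2 ^ nP) = g * p ^ (2 ^ nP) * g⁻¹ := conj_pow
          rw [this, hpow p hp]; group
        intro x
        obtain ⟨y, hy, hyx⟩ := hle x.2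
        have : y = x := Subtype.ext hyx
        rwa [this] at hy
      refine ⟨normalClosure ((P : Subgroup G) : Set G), Cfsg.pPrimeCore 2 G, inferInstance,
        hKcenter, hKodd, ?_, hsupJK, ?_⟩
      · rw [eq_bot_iff]
        intro x hx
        rw [Subgroup.mem_bot]
        have hxt : x * t = t * x := (Subgroup.mem_centralizer_iff.mp (hKP hx.2) t htP).symm
        have hsq := hcitJ ⟨t, hPJ htP⟩ (hall _) (by rw [← Subgroup.orderOf_coe]; exact ht)
          ⟨x, hx.1⟩ (hall _) (Subtype.ext hxt)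
        have hsq' : x ^ 2 = 1 := congrArg Subtype.val hsq
        have h1 : orderOf x ∣ 2 := orderOf_dvd_of_pow_eq_one hsq'
        have h2 : orderOf x ∣ Nat.card (Cfsg.pPrimeCore 2 G) := by
          have := orderOf_dvd_natCard (⟨x, hx.2⟩ : ↥(Cfsg.pPrimeCore 2 G))
          rwa [Subgroup.orderOf_mk] at this
        have h3 : orderOf x ∣ 1 := by
          have := Nat.dvd_gcd h2 h1
          rwa [Nat.Coprime.gcd_eq_one hKcop] at this
        exact orderOf_eq_one_iff.mp (Nat.dvd_one.mp h3)
      · intro t' ht'J ht' c hcJ hc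
        have hsq := hcitJ ⟨t', ht'J⟩ (hall _) (by rw [← Subgroup.orderOf_coe]; exact ht')
          ⟨c, hcJ⟩ (hall _) (Subtype.ext hc)
        exact congrArg Subtype.val hsq

/-- **T3c**: the reduction when `G` has a nontrivial normal subgroup of odd order. -/
theorem reduction (hab : AbInvHyp G)
    (P : Sylow 2 G) (hnc : ¬ IsCyclic ↥(P : Subgroup G)) (hnn : ¬ (P : Subgroup G).Normal)
    (hO : ∃ K : Subgroup G, K.Normal ∧ Odd (Nat.card K) ∧ K ≠ ⊥)
    (IH : ∀ (H : Type u) [Group H] [Finite H], Nat.card H < Nat.card G → Even (Nat.card H) →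
      AbInvHyp H → Concl H) : Good G := by
  have hKcop : (Nat.card (Cfsg.pPrimeCore 2 G)).Coprime 2 :=
    Cfsg.Agent.Helper34.card_pPrimeCore_coprime 2
  have hKodd : Odd (Nat.card (Cfsg.pPrimeCore 2 G)) := Nat.coprime_two_right.mp hKcop
  have hK1 : Cfsg.pPrimeCore 2 G ≠ ⊥ := by
    obtain ⟨K', hK'n, hK'odd, hK'1⟩ := hO
    intro hbot
    apply hK'1
    have := Cfsg.Agent.Helper34.le_pPrimeCore hK'n (Nat.coprime_two_right.mpr hK'odd)
    rw [hbot] at this
    exact le_bot_iff.mp this
  have hP : (P : Subgroup G) ≠ ⊥ := by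
    intro hP; apply hnc; rw [hP]; exact isCyclic_of_subsingleton
  obtain ⟨t, htP, ht⟩ := exists_invol_mem P hP
  have hGev : Even (Nat.card G) := by
    have h1 : orderOf t ∣ Nat.card G := orderOf_dvd_natCard t
    rw [ht] at h1
    exact even_iff_two_dvd.mpr h1
  have hcard := Subgroup.card_eq_card_quotient_mul_card_subgroup (Cfsg.pPrimeCore 2 G)
  have hQev : Even (Nat.card (G ⧸ Cfsg.pPrimeCore 2 G)) := by
    rw [hcard] at hGev
    rcases Nat.even_mul.mp hGev with h | h
    · exact h
    · exact absurd h (Nat.not_even_iff_odd.mpr hKodd)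
  have hKgt : 1 < Nat.card (Cfsg.pPrimeCore 2 G) := by
    rcases Nat.lt_or_ge 1 (Nat.card (Cfsg.pPrimeCore 2 G)) with h | h
    · exact h
    · exfalso
      have hpos : 0 < Nat.card (Cfsg.pPrimeCore 2 G) := Nat.card_pos
      have h1 : Nat.card (Cfsg.pPrimeCore 2 G) = 1 := by omega
      exact hK1 (Subgroup.card_eq_one.mp h1)
  have hlt : Nat.card (G ⧸ Cfsg.pPrimeCore 2 G) < Nat.card G := by
    have hpos : 0 < Nat.card (G ⧸ Cfsg.pPrimeCore 2 G) := Nat.card_pos
    rw [hcard]
    nlinarith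
  have habQ : AbInvHyp (G ⧸ Cfsg.pPrimeCore 2 G) :=
    Cfsg.Agent.Helper42.AbInv.abInv_quotient hab _ hKodd
  have hC := IH (G ⧸ Cfsg.pPrimeCore 2 G) hlt hQev habQ
  obtain ⟨hcit, T, hTnc, hTnn⟩ := Cfsg.Agent.Helper42.AbInv.quotient_cit hab P hnc hnn hC
  refine reduction_core hab P hnc hnn hK1 hcit T hTnc hTnn ?_
  intro Y hY hYe
  have hltY : Nat.card ↥Y < Nat.card G := by
    have h1 := Subgroup.card_mul_index Y
    have h2 : Y.index ≠ 1 := fun h => hY (Subgroup.index_eq_one.mp h)
    have h3 : Y.index ≠ 0 := Subgroup.index_ne_zero_of_finite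
    have h4 : 0 < Nat.card Y := Nat.card_pos
    nlinarith [Nat.two_le_iff Y.index |>.mpr ⟨h3, h2⟩]
  exact IH ↥Y hltY hYe (hab.subgroup Y)

end

end Cfsg.Agent.Helper4.AbInv
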